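import Cfsg.Agent.OD.Pre
import Cfsg.Agent.H6.Top2
import Cfsg.Agent.H6.O8A.D0
set_option autoImplicit false
set_option maxRecDepth 100000
set_option Elab.async false
set_option linter.all false
namespace CfH6.O8A
open CfH6 MulAction
noncomputable def n0_0 : Net := mkNet (nat_lit 1280) [(nat_lit 640, k0), (nat_lit 320, k1), (nat_lit 160, k2), (nat_lit 80, k3), (nat_lit 40, k4), (nat_lit 20, k5), (nat_lit 10, k6), (nat_lit 5, k7)] [(k8, nat_lit 1), (k9, nat_lit 1), (k10, nat_lit 1), (k11, nat_lit 1), (k12, nat_lit 1)]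
noncomputable def n0_1 : Net := mkNet (nat_lit 1280) [(nat_lit 640, k13), (nat_lit 320, k14), (nat_lit 160, k15), (nat_lit 80, k16), (nat_lit 40, k17), (nat_lit 20, k18), (nat_lit 10, k19), (nat_lit 5, k20)] [(k21, nat_lit 1), (k22, nat_lit 1), (k23, nat_lit 1), (k24, nat_lit 1), (k25, nat_lit 1)]
noncomputable def n0_2 : Net := mkNet (nat_lit 1280) [(nat_lit 640, k26), (nat_lit 320, k27), (nat_lit 160, k28), (nat_lit 80, k29), (nat_lit 40, k30), (nat_lit 20, k31), (nat_lit 10, k32), (nat_lit 5, k33)] [(k34, nat_lit 1), (k35, nat_lit 1), (k36, nat_lit 1), (k37, nat_lit 1), (k38, nat_lit 1)]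
noncomputable def n0_3 : Net := mkNet (nat_lit 1280) [(nat_lit 640, k39), (nat_lit 320, k40), (nat_lit 160, k41), (nat_lit 80, k42), (nat_lit 40, k43), (nat_lit 20, k44), (nat_lit 10, k45), (nat_lit 5, k46)] [(k47, nat_lit 1), (k48, nat_lit 1), (k49, nat_lit 1), (k50, nat_lit 1), (k51, nat_lit 1)]
noncomputable def n0_4 : Net := mkNet (nat_lit 1280) [(nat_lit 640, k52), (nat_lit 320, k53), (nat_lit 160, k54), (nat_lit 80, k55), (nat_lit 40, k56), (nat_lit 20, k57), (nat_lit 10, k58), (nat_lit 5, k59)] [(k60, nat_lit 1), (k61, nat_lit 1), (k62, nat_lit 1), (k63, nat_lit 1), (k64, nat_lit 1)]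
noncomputable def n0_5 : Net := mkNet (nat_lit 1280) [(nat_lit 640, k65), (nat_lit 320, k66), (nat_lit 160, k67), (nat_lit 80, k68), (nat_lit 40, k69), (nat_lit 20, k70), (nat_lit 10, k71), (nat_lit 5, k72)] [(k73, nat_lit 1), (k74, nat_lit 1), (k75, nat_lit 1), (k76, nat_lit 1), (k77, nat_lit 1)]
noncomputable def n0_6 : Net := mkNet (nat_lit 1280) [(nat_lit 640, k78), (nat_lit 320, k79), (nat_lit 160, k80), (nat_lit 80, k81), (nat_lit 40, k82), (nat_lit 20, k83), (nat_lit 10, k84), (nat_lit 5, k85)] [(k86, nat_lit 1), (k87, nat_lit 1), (k88, nat_lit 1), (k89, nat_lit 1), (k90, nat_lit 1)]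
noncomputable def n0_7 : Net := mkNet (nat_lit 1280) [(nat_lit 640, k91), (nat_lit 320, k92), (nat_lit 160, k93), (nat_lit 80, k94), (nat_lit 40, k95), (nat_lit 20, k96), (nat_lit 10, k97), (nat_lit 5, k98)] [(k99, nat_lit 1), (k100, nat_lit 1), (k101, nat_lit 1), (k102, nat_lit 1), (k103, nat_lit 1)]
noncomputable def n0_8 : Net := mkNet (nat_lit 1280) [(nat_lit 640, k104), (nat_lit 320, k105), (nat_lit 160, k106), (nat_lit 80, k107), (nat_lit 40, k108), (nat_lit 20, k109), (nat_lit 10, k110), (nat_lit 5, k111)] [(k112, nat_lit 1), (k113, nat_lit 1), (k114, nat_lit 1), (k115, nat_lit 1), (k116, nat_lit 1)]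
noncomputable def n0_9 : Net := mkNet (nat_lit 1280) [(nat_lit 640, k117), (nat_lit 320, k118), (nat_lit 160, k119), (nat_lit 80, k120), (nat_lit 40, k121), (nat_lit 20, k122), (nat_lit 10, k123), (nat_lit 5, k124)] [(k125, nat_lit 1), (k126, nat_lit 1), (k127, nat_lit 1), (k128, nat_lit 1), (k129, nat_lit 1)]
noncomputable def n2_0 : Net := mkNet (nat_lit 128) [(nat_lit 64, (nat_lit 0x3d000c80000000003d000c800)), (nat_lit 32, (nat_lit 0x30000000301e79770018685700)), (nat_lit 16, (nat_lit 0x90889088f900f10061486148)), (nat_lit 8, (nat_lit 0xc040d0d0262600005c1c2222)), (nat_lit 4, (nat_lit 0x3000888866aa20880002aa54e6)), (nat_lit 2, k130)] [(k131, nat_lit 1)]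
noncomputable def n2_1 : Net := mkNet (nat_lit 128) [(nat_lit 64, k132), (nat_lit 32, k133), (nat_lit 16, k134), (nat_lit 8, k135), (nat_lit 4, k136), (nat_lit 2, k137)] [(k138, nat_lit 1)]
noncomputable def n2_2 : Net := mkNet (nat_lit 128) [(nat_lit 64, k139), (nat_lit 32, k140), (nat_lit 16, (nat_lit 0x700070005b005b0000000000)), (nat_lit 8, k141), (nat_lit 4, k142), (nat_lit 2, k143)] [(k144, nat_lit 1)]
noncomputable def n2_3 : Net := mkNet (nat_lit 128) [(nat_lit 64, k145), (nat_lit 32, k146), (nat_lit 16, k147), (nat_lit 8, k148), (nat_lit 4, (nat_lit 0xc4440000886200000000226600)), (nat_lit 2, k149)] [(k150, nat_lit 1)]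
noncomputable def n2_4 : Net := mkNet (nat_lit 128) [(nat_lit 64, (nat_lit 0)), (nat_lit 32, (nat_lit 0x5000000050000000)), (nat_lit 16, (nat_lit 0x7e007e0020002000)), (nat_lit 8, k151), (nat_lit 4, k152), (nat_lit 2, k153)] [(k154, nat_lit 1)]
noncomputable def n2_5 : Net := mkNet (nat_lit 128) [(nat_lit 64, k155), (nat_lit 32, k156), (nat_lit 16, k157), (nat_lit 8, k158), (nat_lit 4, k159), (nat_lit 2, k160)] [(k161, nat_lit 1)]
noncomputable def n2_6 : Net := mkNet (nat_lit 128) [(nat_lit 64, k162), (nat_lit 32, k163), (nat_lit 16, k164), (nat_lit 8, k165), (nat_lit 4, k166), (nat_lit 2, k167)] [(k168, nat_lit 1)]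
noncomputable def n3_0 : Net := mkNet (nat_lit 80) [(nat_lit 40, (nat_lit 0x34cb4a2f8034cb4a2f0)), (nat_lit 20, (nat_lit 0x17fc017fc05a6005a600)), (nat_lit 10, (nat_lit 0x4d9225c1704310404010)), (nat_lit 5, (nat_lit 0x402529b0c6733ce00200))] [((nat_lit 0x84012842109420014a0), nat_lit 1), ((nat_lit 0x48529421080202000), nat_lit 1), ((nat_lit 0x294a10940501000), nat_lit 1), ((nat_lit 0x529400000200000), nat_lit 1), ((nat_lit 0x94200000000000), nat_lit 1)]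
noncomputable def n3_1 : Net := mkNet (nat_lit 80) [(nat_lit 40, (nat_lit 0)), (nat_lit 20, (nat_lit 0)), (nat_lit 10, (nat_lit 0x20085e17840100c0300)), (nat_lit 5, (nat_lit 0x5810821210c6000))] [((nat_lit 0x14a0010a02142501000), nat_lit 1), ((nat_lit 0x940020400094002840), nat_lit 1), ((nat_lit 0x14a0010a0014a001400), nat_lit 1), ((nat_lit 0x400014002800), nat_lit 1), ((nat_lit 0x2001000), nat_lit 1)]
noncomputable def n3_2 : Net := mkNet (nat_lit 80) [(nat_lit 40, (nat_lit 0)), (nat_lit 20, (nat_lit 0)), (nat_lit 10, (nat_lit 0x40106c1b0401000c030)), (nat_lit 5, (nat_lit 0xc418c400c263210))] [((nat_lit 0xa0084a40042500020), nat_lit 1), ((nat_lit 0x2940509400080a10140), nat_lit 1), ((nat_lit 0x1080204a00040528080), nat_lit 1), ((nat_lit 0x2940500000000a10140), nat_lit 1), ((nat_lit 0x20080000000500020), nat_lit 1)]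
noncomputable def n3_3 : Net := mkNet (nat_lit 80) [(nat_lit 40, (nat_lit 0)), (nat_lit 20, (nat_lit 0x155c0155c0)), (nat_lit 10, (nat_lit 0x40100200808220800000)), (nat_lit 5, (nat_lit 0x42318420000014a00318))] [((nat_lit 0x1480004200100500020), nat_lit 1), ((nat_lit 0x940120025284000948), nat_lit 1), ((nat_lit 0x14a0280002140000080), nat_lit 1), ((nat_lit 0x140100005280000140), nat_lit 1), ((nat_lit 0x80000000100000020), nat_lit 1)]
noncomputable def n3_4 : Net := mkNet (nat_lit 80) [(nat_lit 40, (nat_lit 0x30ff00000030ff00000)), (nat_lit 20, (nat_lit 0x2598025980000000000)), (nat_lit 10, (nat_lit 0x982602a0a80902400000)), (nat_lit 5, (nat_lit 0xd6842803100825000000))] [((nat_lit 0x29485090210008100000), nat_lit 1), ((nat_lit 0x1204a101400080a00008), nat_lit 1), ((nat_lit 0x29085080800000400000), nat_lit 1), ((nat_lit 0x1400000a00000), nat_lit 1), ((nat_lit 0x200000100000), nat_lit 1)]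
noncomputable def n4_0 : Net := mkNet (nat_lit 40) [(nat_lit 20, (nat_lit 0)), (nat_lit 10, (nat_lit 0x88220e0380)), (nat_lit 5, (nat_lit 0x8c1407c000))] [((nat_lit 0x100421420), nat_lit 1), ((nat_lit 0x280852800), nat_lit 1), ((nat_lit 0x100421000), nat_lit 1), ((nat_lit 0x280052800), nat_lit 1), ((nat_lit 0x8000), nat_lit 1)]
noncomputable def n4_1 : Net := mkNet (nat_lit 40) [(nat_lit 20, (nat_lit 0)), (nat_lit 10, (nat_lit 0x40100c0300)), (nat_lit 5, (nat_lit 0x21210c6000))] [((nat_lit 0x2142501000), nat_lit 1), ((nat_lit 0x94002840), nat_lit 1), ((nat_lit 0x14a001400), nat_lit 1), ((nat_lit 0x14002800), nat_lit 1), ((nat_lit 0x2001000), nat_lit 1)]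
noncomputable def n4_2 : Net := mkNet (nat_lit 40) [(nat_lit 20, (nat_lit 0)), (nat_lit 10, (nat_lit 0x401000c030)), (nat_lit 5, (nat_lit 0x400c263210))] [((nat_lit 0x42500020), nat_lit 1), ((nat_lit 0x80a10140), nat_lit 1), ((nat_lit 0x40528080), nat_lit 1), ((nat_lit 0xa10140), nat_lit 1), ((nat_lit 0x500020), nat_lit 1)]
noncomputable def n4_3 : Net := mkNet (nat_lit 40) [(nat_lit 20, (nat_lit 0x155c0155c0)), (nat_lit 10, (nat_lit 0x8220800000)), (nat_lit 5, (nat_lit 0x14a00318))] [((nat_lit 0x100500020), nat_lit 1), ((nat_lit 0x5284000948), nat_lit 1), ((nat_lit 0x2140000080), nat_lit 1), ((nat_lit 0x5280000140), nat_lit 1), ((nat_lit 0x100000020), nat_lit 1)]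
noncomputable def n5_0 : Net := mkNet (nat_lit 20) [(nat_lit 10, (nat_lit 0xe0380)), (nat_lit 5, (nat_lit 0x7c000))] [((nat_lit 0x21420), nat_lit 1), ((nat_lit 0x52800), nat_lit 1), ((nat_lit 0x21000), nat_lit 1), ((nat_lit 0x52800), nat_lit 1), ((nat_lit 0x8000), nat_lit 1)]
noncomputable def n5_1 : Net := mkNet (nat_lit 20) [(nat_lit 10, (nat_lit 0xc0300)), (nat_lit 5, (nat_lit 0xc6000))] [((nat_lit 0x1000), nat_lit 1), ((nat_lit 0x2840), nat_lit 1), ((nat_lit 0x1400), nat_lit 1), ((nat_lit 0x2800), nat_lit 1), ((nat_lit 0x1000), nat_lit 1)]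
noncomputable def n5_2 : Net := mkNet (nat_lit 20) [(nat_lit 10, (nat_lit 0xc030)), (nat_lit 5, (nat_lit 0x63210))] [((nat_lit 0x20), nat_lit 1), ((nat_lit 0x10140), nat_lit 1), ((nat_lit 0x28080), nat_lit 1), ((nat_lit 0x10140), nat_lit 1), ((nat_lit 0x20), nat_lit 1)]
noncomputable def n6_0 : Net := mkNet (nat_lit 12) [(nat_lit 6, (nat_lit 0)), (nat_lit 3, (nat_lit 0x700))] [((nat_lit 0x40), nat_lit 1), ((nat_lit 0x480), nat_lit 1), ((nat_lit 0x200), nat_lit 1)]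
noncomputable def n6_1 : Net := mkNet (nat_lit 12) [(nat_lit 6, (nat_lit 0)), (nat_lit 3, (nat_lit 0x380))] [((nat_lit 0x200), nat_lit 1), ((nat_lit 0x480), nat_lit 1), ((nat_lit 0x40), nat_lit 1)]
noncomputable def nets0 : List Net := [n0_0, n0_1, n0_2, n0_3, n0_4, n0_5, n0_6, n0_7, n0_8, n0_9]
noncomputable def nets1 : List Net := [n0_2, n0_3, n0_4, n0_5, n0_6, n0_7, n0_8, n0_9]
def ws1 : List (List ℕ) := [[2],
  [3],
  [4],
  [5],
  [6],
  [7],
  [8],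
  [9]]
noncomputable def nets2 : List Net := [n2_0, n2_1, n2_2, n2_3, n2_4, n2_5, n2_6]
def ws2 : List (List ℕ) := [[1],
  [2],
  [3],
  [4],
  [5],
  [6],
  [7]]
noncomputable def nets3 : List Net := [n3_0, n3_1, n3_2, n3_3, n3_4]
def ws3 : List (List ℕ) := [[1, 0, 2, 1, 5, 2, 0, 4, 4, 1, 3, 0, 0, 6, 2, 6, 2, 6, 6, 2, 5, 5, 3, 3, 0, 0, 5, 1, 2, 5, 5, 0, 1, 4, 6, 0, 4, 4, 0, 5, 5, 2, 6, 0, 5, 2, 2, 4, 2],
  [6],
  [4],
  [3],
  [2]]
noncomputable def nets4 : List Net := [n4_0, n4_1, n4_2, n4_3]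
def ws4 : List (List ℕ) := [[0, 4, 0, 3, 4, 0],
  [1],
  [2],
  [3]]
noncomputable def nets5 : List Net := [n5_0, n5_1, n5_2]
def ws5 : List (List ℕ) := [[0],
  [1],
  [2]]
noncomputable def nets6 : List Net := [n6_0, n6_1]
def ws6 : List (List ℕ) := [[0, 2, 0],
  [1]]
def sig : List (List ℕ) := [[0],
  [1],
  [2],
  [3],
  [4],
  [5],
  [6],
  [7],
  [8],
  [9]]
def eqs0 : List (List ℕ × List ℕ) := [([0, 0], []),
  ([1, 1], []),
  ([2, 2], []),
  ([3, 3], []),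
  ([4, 4], []),
  ([5, 5], []),
  ([6, 6], []),
  ([7, 7], []),
  ([8, 8], []),
  ([9, 9], []),
  ([0, 1, 0], [1, 0, 1]),
  ([0, 2], [2, 0]),
  ([0, 3], [3, 0]),
  ([0, 4], [4, 0]),
  ([0, 5], [5, 0]),
  ([0, 6], [6, 0]),
  ([0, 7], [7, 0]),
  ([0, 8], [8, 0]),
  ([0, 9], [9, 0]),
  ([1, 2, 1], [2, 1, 2]),
  ([1, 3], [3, 1]),
  ([1, 4], [4, 1]),
  ([1, 5], [5, 1]),
  ([1, 6], [6, 1]),
  ([1, 7], [7, 1]),
  ([1, 8], [8, 1]),
  ([1, 9], [9, 1]),
  ([2, 3, 2], [3, 2, 3]),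
  ([2, 4], [4, 2]),
  ([2, 5], [5, 2]),
  ([2, 6], [6, 2]),
  ([2, 7], [7, 2]),
  ([2, 8], [8, 2]),
  ([2, 9], [9, 2]),
  ([3, 4, 3], [4, 3, 4]),
  ([3, 5], [5, 3]),
  ([3, 6], [6, 3]),
  ([3, 7], [7, 3]),
  ([3, 8], [8, 3]),
  ([3, 9], [9, 3]),
  ([4, 5, 4], [5, 4, 5]),
  ([4, 6], [6, 4]),
  ([4, 7], [7, 4]),
  ([4, 8], [8, 4]),
  ([4, 9], [9, 4]),
  ([5, 6, 5], [6, 5, 6]),
  ([5, 7], [7, 5]),
  ([5, 8, 5], [8, 5, 8]),
  ([5, 9], [9, 5]),
  ([6, 7, 6], [7, 6, 7]),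
  ([6, 8], [8, 6]),
  ([6, 9], [9, 6]),
  ([7, 8], [8, 7]),
  ([7, 9], [9, 7]),
  ([8, 9, 8], [9, 8, 9]),
  ([0, 8, 7, 6, 5, 4, 3, 2, 8, 7, 6, 5, 4, 3, 2, 8, 7, 6, 5, 4, 3, 2, 8, 7, 6, 5, 4, 3, 2, 8, 7, 6], [2, 3, 4, 5, 6, 7, 8, 2, 3, 4, 5, 6, 7, 8, 2, 3, 4, 5, 6, 7, 8, 2, 3, 4, 5, 6, 7, 8, 2, 3, 4, 5])]
def eqs : List (List ℕ × List ℕ) := eqs0
def lU : List (ℕ × ℕ) := [(0, 17), (20, 14), (40, 32), (80, 47), (128, 970)]
noncomputable def U : ℕ := ivls lU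
def l1 : List (ℕ × ℕ) := [(1, 1), (128, 727)]
noncomputable def S1 : ℕ := ivls l1
def w1 : List ℕ := [1]
def l2 : List (ℕ × ℕ) := [(2, 15), (20, 14), (40, 32), (80, 47), (855, 243)]
noncomputable def S2 : ℕ := ivls l2
def w2 : List ℕ := [1, 2, 0, 1]
noncomputable def J : List (List ℕ × ℕ × ℕ) := [(w1, 1, S1), (w2, 855, S2)]
def rw0 : List (List ℕ) := [[5, 4, 3, 5, 6, 7, 5, 8, 9, 5, 4, 3, 5, 6, 7, 5, 8, 9, 5, 4, 3, 5, 6, 7, 5, 8, 9, 5, 4, 3, 5, 6, 7, 5, 8, 9, 5, 4, 3, 5, 6, 7, 5, 8, 9, 5, 4, 3, 5, 6, 7, 5, 8, 9, 5, 4, 3, 5, 6, 7, 5, 8, 9, 5, 4, 3, 5, 6, 7, 5, 8, 9, 5, 4, 3, 5, 6, 7, 5, 8, 9, 5, 4, 3, 5, 6, 7, 5, 8, 9]]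
def bs0 : List ℕ := [0, 1, 2, 3, 4, 5, 6]
end CfH6.O8A
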