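import Cfsg.Agent.OD.Pre
import Cfsg.Agent.H6.Top2
import Cfsg.Agent.H6.O8A.C
set_option autoImplicit false
set_option maxRecDepth 100000
set_option Elab.async false
set_option linter.all false
namespace CfH6.O8A
open CfH6 MulAction
theorem e0_0 : EqsOk nets0 eqs0 1280 11 0 11 :=
  eqsOk_of _ _ _ _ 0 11 _ (by decide) (by decide +kernel)
theorem ok0 : okNets 1280 nets0 = true := by decide +kernel
theorem x1_0 : NxOk nets0 ws1 nets1 8 1280 11 1280 0 11 :=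
  nxOk_of _ _ _ _ _ _ _ 0 11 _ (by decide) (by decide +kernel)
theorem sx1 : sideNx ws1 nets1 10 1280 11 1280 = true := by decide +kernel
theorem x2_0 : NxOk nets1 ws2 nets2 7 1280 11 128 0 11 :=
  nxOk_of _ _ _ _ _ _ _ 0 11 _ (by decide) (by decide +kernel)
theorem sx2 : sideNx ws2 nets2 8 1280 11 128 = true := by decide +kernel
theorem x3_0 : NxOk nets2 ws3 nets3 5 128 7 80 0 7 :=
  nxOk_of _ _ _ _ _ _ _ 0 7 _ (by decide) (by decide +kernel)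
theorem sx3 : sideNx ws3 nets3 7 128 7 80 = true := by decide +kernel
theorem x4_0 : NxOk nets3 ws4 nets4 4 80 7 40 0 7 :=
  nxOk_of _ _ _ _ _ _ _ 0 7 _ (by decide) (by decide +kernel)
theorem sx4 : sideNx ws4 nets4 5 80 7 40 = true := by decide +kernel
theorem x5_0 : NxOk nets4 ws5 nets5 3 40 6 20 0 6 :=
  nxOk_of _ _ _ _ _ _ _ 0 6 _ (by decide) (by decide +kernel)
theorem sx5 : sideNx ws5 nets5 4 40 6 20 = true := by decide +kernel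
theorem x6_0 : NxOk nets5 ws6 nets6 2 20 5 12 0 5 :=
  nxOk_of _ _ _ _ _ _ _ 0 5 _ (by decide) (by decide +kernel)
theorem sx6 : sideNx ws6 nets6 3 20 5 12 = true := by decide +kernel
theorem oi1_0 : (Nat.blt 0 8 && Nat.beq (orbN nets1 8 72 (Nat.shiftLeft 1 1)) S1) = true := by decide +kernel
theorem ci1 : (Nat.beq (chkInv nets1 8 S1) 0 && S1.testBit 1) = true := by decide +kernel
theorem oi2_0 : (Nat.blt 0 8 && Nat.beq (orbN nets1 8 64 (Nat.shiftLeft 1 855)) S2) = true := by decide +kernel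
theorem ci2 : (Nat.beq (chkInv nets1 8 S2) 0 && S2.testBit 855) = true := by decide +kernel
theorem og6 : Nat.ble 6 (popc 4 (orbN nets6 2 4 (Nat.shiftLeft 1 6))) = true := by decide +kernel
theorem og5 : Nat.ble 12 (popc 5 (orbN nets5 3 9 (Nat.shiftLeft 1 5))) = true := by decide +kernel
theorem og4 : Nat.ble 27 (popc 6 (orbN nets4 4 12 (Nat.shiftLeft 1 4))) = true := by decide +kernel
theorem og3 : Nat.ble 60 (popc 7 (orbN nets3 5 15 (Nat.shiftLeft 1 3))) = true := by decide +kernel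
theorem og2 : Nat.ble 108 (popc 7 (orbN nets2 7 42 (Nat.shiftLeft 1 2))) = true := by decide +kernel
theorem rw1 : (allLt 10 [5, 4, 3, 5, 6, 7, 5, 8, 9, 5, 4, 3, 5, 6, 7, 5, 8, 9, 5, 4, 3, 5, 6, 7, 5, 8, 9, 5, 4, 3, 5, 6, 7, 5, 8, 9, 5, 4, 3, 5, 6, 7, 5, 8, 9, 5, 4, 3, 5, 6, 7, 5, 8, 9, 5, 4, 3, 5, 6, 7, 5, 8, 9, 5, 4, 3, 5, 6, 7, 5, 8, 9, 5, 4, 3, 5, 6, 7, 5, 8, 9, 5, 4, 3, 5, 6, 7, 5, 8, 9] && bs0.all fun b => Nat.blt b 1280 && Nat.beq (chkMap nets0 [5, 4, 3, 5, 6, 7, 5, 8, 9, 5, 4, 3, 5, 6, 7, 5, 8, 9, 5, 4, 3, 5, 6, 7, 5, 8, 9, 5, 4, 3, 5, 6, 7, 5, 8, 9, 5, 4, 3, 5, 6, 7, 5, 8, 9, 5, 4, 3, 5, 6, 7, 5, 8, 9, 5, 4, 3, 5, 6, 7, 5, 8, 9, 5, 4, 3, 5, 6, 7, 5, 8, 9, 5, 4, 3, 5, 6, 7, 5, 8, 9, 5, 4, 3, 5, 6, 7, 5, 8, 9] b b) 0) = true := by decide +kernel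
end CfH6.O8A
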